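import Groth.Agent.WellInter.Basic
import Groth.Agent.CycDim.PushVanish
/-!
Consequences of well intersection: images, and generic radiciality.
-/
set_option autoImplicit false
set_option linter.style.haveILetI false
set_option backward.isDefEq.respectTransparency false
universe u
open AlgebraicGeometry CategoryTheory CategoryTheory.Limits TopologicalSpace

namespace Groth.Agent.WellInter

variable {k : Type u} [Field k] {X S : Scheme.{u}} {q : S ⟶ Spec (CommRingCat.of k)} {f : X ⟶ S}
  [LocallyOfFiniteType q] [CompactSpace X] [CompactSpace S] [IsSeparated q] [LocallyOfFiniteType f] [IsSeparated f]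

omit [LocallyOfFiniteType q] [CompactSpace S] [LocallyOfFiniteType f] [IsSeparated f] in
include q in
theorem quasiCompact_f : QuasiCompact f := by
  haveI : QuasiSeparatedSpace S := quasiSeparatedSpace_of_quasiSeparated q
  infer_instance

include q in
theorem not_subset_closure {Y Z : Set X} (hYc : IsClosed Y) (hYi : IsIrreducible Y) (hZc : IsClosed Z)
    (hZi : IsIrreducible Z)
    (hWI : topologicalKrullDim ↥(offDiag f Y Z) + topologicalKrullDim S ≤ topologicalKrullDim Y + topologicalKrullDim Z)
    (hZS : topologicalKrullDim Z < topologicalKrullDim S) (hYZ : ¬ Y ⊆ Z) :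
    ¬ (f '' Y ⊆ closure (f '' Y ∩ f '' Z)) := by
  intro hsub
  haveI := quasiCompact_f (q := q) (f := f)
  let y := hYi.genericPoint
  have hy : y ∈ Y := by
    have h := subset_closure (Set.mem_singleton y)
    rwa [IsIrreducible.genericPoint_closure_eq, hYc.closure_eq] at h
  have hgen : ∀ w ∈ Y, y ⤳ w := fun w hw => by
    rw [specializes_iff_mem_closure, IsIrreducible.genericPoint_closure_eq, hYc.closure_eq]
    exact hw
  have hcl : f '' Y ∩ f '' Z ⊆ f '' (Z ∩ f ⁻¹' closure {f y}) := by
    rintro _ ⟨⟨w, hw, rfl⟩, z, hz, hzw⟩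
    exact ⟨z, ⟨hz, by
      show f z ∈ closure {f y}
      rw [hzw]; exact ((hgen w hw).map f.continuous).mem_closure⟩, hzw⟩
  obtain ⟨z, ⟨hz, hz'⟩, hzy⟩ := SubDescent.exists_specializes_of_mem_closure_image f
    (hZc.inter (isClosed_closure.preimage f.continuous)) (closure_mono hcl (hsub ⟨y, hy, rfl⟩))
  have he : f y = f z := ((specializes_iff_mem_closure.2 hz').antisymm hzy).eq
  obtain ⟨p, hp1, hp2⟩ := Scheme.Pullback.exists_preimage_pullback (f := f) (g := f) y z he
  refine not_mem_offDiag (q := q) hYc hYi hZc hZi hWI hZS hp1 ⟨by rw [hp1]; exact hy, by rw [hp2]; exact hz, ?_⟩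
  rintro ⟨w, rfl⟩
  rw [← Scheme.Hom.comp_apply, pullback.diagonal_fst] at hp1
  rw [← Scheme.Hom.comp_apply, pullback.diagonal_snd] at hp2
  refine hYZ fun v hv => (hgen v hv).mem_closed hZc ?_
  rw [show w = y from hp1] at hp2
  exact (show y = z from hp2).symm ▸ hz

include q in
theorem exists_radicial {Y : Set X} (hYc : IsClosed Y) (hYi : IsIrreducible Y)
    (hWI : topologicalKrullDim ↥(offDiag f Y Y) + topologicalKrullDim S ≤ topologicalKrullDim Y + topologicalKrullDim Y)
    (hYS : topologicalKrullDim Y < topologicalKrullDim S) :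
    ∃ V : Set X, IsOpen V ∧ (V ∩ Y).Nonempty ∧ Set.InjOn f (V ∩ Y) ∧
      ∀ x ∈ V ∩ Y, (f.residueFieldMap x).hom.IsPurelyInseparable := by
  haveI := quasiCompact_f (q := q) (f := f)
  haveI : IsLocallyNoetherian (pullback f f) :=
    LocallyOfFiniteType.isLocallyNoetherian (pullback.fst f f ≫ f ≫ q)
  let y := hYi.genericPoint
  have hy : y ∈ Y := by
    have h := subset_closure (Set.mem_singleton y)
    rwa [IsIrreducible.genericPoint_closure_eq, hYc.closure_eq] at h
  let g := (offOpen f).ι ≫ pullback.fst f f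
  let C : Set ↥(offOpen f).toScheme :=
    (offOpen f).ι ⁻¹' ((pullback.fst f f) ⁻¹' Y ∩ (pullback.snd f f) ⁻¹' Y)
  have hC : IsClosed C :=
    ((hYc.preimage (pullback.fst f f).continuous).inter (hYc.preimage (pullback.snd f f).continuous)).preimage
      (offOpen f).ι.continuous
  let V : Set X := (closure (g '' C))ᶜ
  have hyV : y ∈ V := by
    intro hyc
    obtain ⟨w, hw, hwy⟩ := SubDescent.exists_specializes_of_mem_closure_image g hC hyc
    have he : g w = y := by
      refine (hwy.antisymm ?_).eq
      rw [specializes_iff_mem_closure, IsIrreducible.genericPoint_closure_eq, hYc.closure_eq]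
      exact hw.1
    exact not_mem_offDiag (q := q) hYc hYi hYc hYi hWI hYS (p := (offOpen f).ι w) he ⟨hw.1, hw.2, w.2⟩
  let Vo : X.Opens := ⟨V, isClosed_closure.isOpen_compl⟩
  let I := Scheme.IdealSheafData.vanishingIdeal (⟨Y, hYc⟩ : Closeds X)
  let j := (I.subschemeι ⁻¹ᵁ Vo).ι ≫ I.subschemeι
  have hrange : ∀ x ∈ V ∩ Y, x ∈ Set.range j := by
    intro x hx
    obtain ⟨w, rfl⟩ : x ∈ Set.range I.subschemeι := by
      rw [Scheme.IdealSheafData.range_subschemeι, Scheme.IdealSheafData.coe_support_vanishingIdeal]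
      exact hx.2
    exact ⟨⟨w, hx.1⟩, rfl⟩
  have hmem : ∀ w, j w ∈ V ∩ Y := fun w => ⟨w.2, by
    have := Set.mem_range_self (f := I.subschemeι) ((I.subschemeι ⁻¹ᵁ Vo).ι w)
    rw [Scheme.IdealSheafData.range_subschemeι, Scheme.IdealSheafData.coe_support_vanishingIdeal] at this
    exact this⟩
  haveI : UniversallyInjective (j ≫ f) := by
    rw [UniversallyInjective.iff_diagonal, surjective_iff]
    intro p
    let m := pullback.map (j ≫ f) (j ≫ f) f f j j (𝟙 S) (by simp) (by simp)
    have hm1 : pullback.fst f f (m p) = j (pullback.fst (j ≫ f) (j ≫ f) p) := by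
      rw [← Scheme.Hom.comp_apply, pullback.lift_fst]; rfl
    have hm2 : pullback.snd f f (m p) = j (pullback.snd (j ≫ f) (j ≫ f) p) := by
      rw [← Scheme.Hom.comp_apply, pullback.lift_snd]; rfl
    have hd : m p ∈ Set.range (pullback.diagonal f) := by
      by_contra hnd
      refine (hmem (pullback.fst (j ≫ f) (j ≫ f) p)).1 (subset_closure ⟨⟨m p, hnd⟩, ⟨?_, ?_⟩, hm1⟩)
      · show pullback.fst f f (m p) ∈ Y
        rw [hm1]; exact (hmem _).2
      · show pullback.snd f f (m p) ∈ Y
        rw [hm2]; exact (hmem _).2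
    obtain ⟨w, hw⟩ := hd
    have hwj : j (pullback.fst (j ≫ f) (j ≫ f) p) = w := by
      rw [← hm1, ← hw, ← Scheme.Hom.comp_apply, pullback.diagonal_fst]; rfl
    refine ⟨pullback.fst (j ≫ f) (j ≫ f) p, ?_⟩
    haveI : Mono m := ⟨fun a b hab => by
      apply pullback.hom_ext
      · have h := congrArg (· ≫ pullback.fst f f) hab
        have e : m ≫ pullback.fst f f = pullback.fst (j ≫ f) (j ≫ f) ≫ j := pullback.lift_fst _ _ _
        refine (cancel_mono j).1 ?_
        simp only [Category.assoc] at h ⊢
        exact (congrArg (a ≫ ·) e.symm).trans (h.trans (congrArg (b ≫ ·) e))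
      · have h := congrArg (· ≫ pullback.snd f f) hab
        have e : m ≫ pullback.snd f f = pullback.snd (j ≫ f) (j ≫ f) ≫ j := pullback.lift_snd _ _ _
        refine (cancel_mono j).1 ?_
        simp only [Category.assoc] at h ⊢
        exact (congrArg (a ≫ ·) e.symm).trans (h.trans (congrArg (b ≫ ·) e))⟩
    have hinj : Function.Injective m := m.injective
    apply hinj
    rw [← hw, ← hwj, ← Scheme.Hom.comp_apply, ← Scheme.Hom.comp_apply]
    exact congrArg (fun l : _ ⟶ pullback f f => l _) (show pullback.diagonal (j ≫ f) ≫ m = j ≫ pullback.diagonal f by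
      apply pullback.hom_ext <;> simp [m])
  obtain ⟨hinj, hres⟩ := ((tfae_universallyInjective (j ≫ f)).out 0 2).1 ‹_›
  refine ⟨V, Vo.isOpen, ⟨y, hyV, hy⟩, ?_, ?_⟩
  · intro a ha b hb hab
    obtain ⟨a, rfl⟩ := hrange a ha
    obtain ⟨b, rfl⟩ := hrange b hb
    exact congrArg j (hinj hab)
  · intro x hx
    obtain ⟨w, rfl⟩ := hrange x hx
    have h := hres w
    have e : ((j ≫ f).residueFieldMap w).hom = (j.residueFieldMap w).hom.comp (f.residueFieldMap (j w)).hom :=
      congrArg CommRingCat.Hom.hom (Scheme.residueFieldMap_comp j f w)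
    rw [e] at h
    have hb : Function.Bijective (j.residueFieldMap w).hom :=
      ⟨(j.residueFieldMap w).hom.injective, CycPush.residueFieldMap_surjective_pre j w⟩
    letI := (f.residueFieldMap (j w)).hom.toAlgebra
    letI := ((j.residueFieldMap w).hom.comp (f.residueFieldMap (j w)).hom).toAlgebra
    exact (AlgEquiv.ofBijective
      ({ (j.residueFieldMap w).hom with commutes' := fun _ => rfl } :
        X.residueField (j w) →ₐ[S.residueField (f (j w))] _) hb).isPurelyInseparable_iff.2 h

end Groth.Agent.WellInter
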