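import Groth.Agent.WellInter.Basic
import Groth.Agent.DimField.Scheme
import Groth.Agent.ConsEngine.Fiber
import Mathlib
/-!
Dimensions of preimages under the base change of a morphism with fibres of constant dimension.
-/
set_option autoImplicit false
set_option linter.style.haveILetI false
set_option backward.isDefEq.respectTransparency false
universe u
open AlgebraicGeometry CategoryTheory CategoryTheory.Limits Groth.Agent.Unibranch

namespace Groth.Agent.WellInter

variable {k : Type u} [Field k]

theorem add_natCast_le_iff (a b : WithBot ℕ∞) (n : ℕ) : a + n ≤ b + n ↔ a ≤ b := by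
  cases a with
  | bot => simp only [WithBot.bot_add, bot_le]
  | coe a =>
    cases b with
    | bot =>
      rw [WithBot.bot_add, ← WithBot.coe_natCast, ← WithBot.coe_add]
      exact iff_of_false (WithBot.not_coe_le_bot _) (WithBot.not_coe_le_bot _)
    | coe b =>
      rw [← WithBot.coe_natCast, ← WithBot.coe_add, ← WithBot.coe_add, WithBot.coe_le_coe, WithBot.coe_le_coe]
      exact ENat.add_le_add_iff_right (ENat.natCast_ne_top n)

theorem dim_preimage_eq {T T' S S' : Scheme.{u}} (qT : T ⟶ Spec (CommRingCat.of k)) [LocallyOfFiniteType qT]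
    (h : T ⟶ S) (g : S' ⟶ S) [LocallyOfFiniteType g] [Surjective g] {m : T' ⟶ T} {e : T' ⟶ S'}
    (sq : IsPullback e m g h) (d : ℕ) (hd : ∀ s : S, topologicalKrullDim (g.fiber s) = d)
    {A : Set T} (hA : IsLocallyClosed A) :
    topologicalKrullDim ↥(m ⁻¹' A) = topologicalKrullDim ↥A + d := by
  haveI : LocallyOfFiniteType m := MorphismProperty.of_isPullback sq inferInstance
  have hA' : IsLocallyClosed (m ⁻¹' A) := hA.preimage m.continuous
  have hfib : ∀ t : T, topologicalKrullDim (m.fiber t) = d := by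
    intro t
    haveI : LocallyOfFiniteType (g.fiberToSpecResidueField (h t)) := MorphismProperty.pullback_snd _ _ ‹_›
    exact (DimField.dim_eq_of_isPullback _ _ _ _ (ConsEngine.isPullback_fiberBC sq t)).symm.trans (hd (h t))
  have hle : ∀ x' : T', WeilCoh.pdim T' x' ≤ WeilCoh.pdim T (m x') + d := by
    intro x'
    obtain ⟨δ, -, hδ2, hδ⟩ := FlatDim.exists_pdim_eq m qT x'
    have : δ ≤ d := natCast_le_iff_of_le_iff.1 (hfib (m x')).le δ
      ((FlatDim.natCast_le_fibre_iff m (m x')).2 ⟨x', rfl, hδ2⟩)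
    omega
  have hge : ∀ t : T, ∃ x' : T', m x' = t ∧ WeilCoh.pdim T t + d ≤ WeilCoh.pdim T' x' := by
    intro t
    obtain ⟨x', hx', hch⟩ := (FlatDim.natCast_le_fibre_iff m t).1 (hfib t).ge
    obtain ⟨δ, hδ1, -, hδ⟩ := FlatDim.exists_pdim_eq m qT x'
    subst hx'
    have := hch.le hδ1
    exact ⟨x', rfl, by omega⟩
  refine le_antisymm (le_of_forall_natCast_le fun n hn => ?_) ?_
  · obtain ⟨x', hx', hn'⟩ := (FlatDim.natCast_le_dim_iff (m ≫ qT) hA').1 hn
    refine le_trans ?_ (add_le_add ((FlatDim.natCast_le_dim_iff qT hA).2 ⟨m x', hx', le_rfl⟩) le_rfl)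
    have := hle x'
    exact_mod_cast hn'.trans this
  · rw [add_comm]
    refine FlatDim.add_le_of_forall fun n hn => ?_
    obtain ⟨t, ht, hnt⟩ := (FlatDim.natCast_le_dim_iff qT hA).1 hn
    obtain ⟨x', hx', hge'⟩ := hge t
    refine (FlatDim.natCast_le_dim_iff (m ≫ qT) hA').2 ⟨x', by rw [Set.mem_preimage, hx']; exact ht, ?_⟩
    omega

variable {X S S' : Scheme.{u}} (q : S ⟶ Spec (CommRingCat.of k)) [LocallyOfFiniteType q]
  (f : X ⟶ S) [LocallyOfFiniteType f] [IsSeparated f] (g : S' ⟶ S) [LocallyOfFiniteType g] [Surjective g]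

include q in
theorem wellInter_baseChange_iff (d : ℕ) (hd : ∀ s : S, topologicalKrullDim (g.fiber s) = d)
    {Y Z : Set X} (hY : IsClosed Y) (hZ : IsClosed Z) :
    topologicalKrullDim ↥(offDiag f Y Z) + topologicalKrullDim S ≤ topologicalKrullDim Y + topologicalKrullDim Z ↔
      topologicalKrullDim ↥(offDiag (pullback.snd f g) (pullback.fst f g ⁻¹' Y) (pullback.fst f g ⁻¹' Z)) +
        topologicalKrullDim S' ≤
        topologicalKrullDim ↥(pullback.fst f g ⁻¹' Y) + topologicalKrullDim ↥(pullback.fst f g ⁻¹' Z) := by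
  have sqX : IsPullback (pullback.snd f g) (pullback.fst f g) g f := (IsPullback.of_hasPullback f g).flip
  have sqX' : IsPullback (pullback.fst f g) (pullback.snd f g) f g := IsPullback.of_hasPullback f g
  let f' := pullback.snd f g
  let m : pullback f' f' ⟶ pullback f f := pullback.map f' f' f f (pullback.fst f g) (pullback.fst f g) g
    pullback.condition.symm pullback.condition.symm
  have hm1 : m ≫ pullback.fst f f = pullback.fst f' f' ≫ pullback.fst f g := pullback.lift_fst _ _ _
  have hm2 : m ≫ pullback.snd f f = pullback.snd f' f' ≫ pullback.fst f g := pullback.lift_snd _ _ _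
  have sqA : IsPullback m (pullback.snd f' f') (pullback.snd f f) (pullback.fst f g) := by
    refine IsPullback.of_right ?_ hm2 (IsPullback.of_hasPullback f f)
    rw [hm1, sqX'.w]
    exact (IsPullback.of_hasPullback f' f').paste_horiz sqX'
  have sqP : IsPullback (pullback.snd f' f' ≫ f') m g (pullback.snd f f ≫ f) :=
    (sqA.paste_vert sqX').flip
  have sqD : IsPullback (pullback.fst f g) (pullback.diagonal f') (pullback.diagonal f) m := by
    refine IsPullback.of_bot ?_ ?_ sqA
    · rw [pullback.diagonal_snd, pullback.diagonal_snd]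
      exact IsPullback.of_vert_isIso ⟨by simp⟩
    · apply pullback.hom_ext <;> simp [m]
  have hrange : Set.range (pullback.diagonal f') = m ⁻¹' Set.range (pullback.diagonal f) := by
    rw [← Scheme.Pullback.range_snd]
    refine Set.Subset.antisymm ?_ ?_
    · rintro _ ⟨x, rfl⟩
      exact ⟨sqD.isoPullback.hom x, by rw [← Scheme.Hom.comp_apply, sqD.isoPullback_hom_snd]⟩
    · rintro _ ⟨x, rfl⟩
      exact ⟨sqD.isoPullback.inv x, by rw [← Scheme.Hom.comp_apply, sqD.isoPullback_inv_snd]⟩
  have hpre : offDiag f' (pullback.fst f g ⁻¹' Y) (pullback.fst f g ⁻¹' Z) = m ⁻¹' offDiag f Y Z := by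
    ext p
    simp only [offDiag, Set.mem_ofPred_eq, Set.mem_preimage, hrange]
    rw [← Scheme.Hom.comp_apply, ← Scheme.Hom.comp_apply, ← Scheme.Hom.comp_apply, ← hm1, ← hm2,
      Scheme.Hom.comp_apply, Scheme.Hom.comp_apply]
  have hW : IsLocallyClosed (offDiag f Y Z) := by
    rw [offDiag_eq]
    exact ((hY.preimage (pullback.fst f f).continuous).inter
      (hZ.preimage (pullback.snd f f).continuous)).isLocallyClosed.inter (offOpen f).isOpen.isLocallyClosed
  have hS : topologicalKrullDim S' = topologicalKrullDim S + d := by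
    rw [FlatDim.dim_univ_eq (X := S), FlatDim.dim_univ_eq (X := S')]
    exact dim_preimage_eq q (𝟙 S) g (m := g) (e := 𝟙 S') (IsPullback.of_horiz_isIso ⟨by simp⟩) d hd
      isClosed_univ.isLocallyClosed
  rw [hpre, hS, dim_preimage_eq (pullback.snd f f ≫ f ≫ q) _ g sqP d hd hW,
    dim_preimage_eq (f ≫ q) f g sqX d hd hY.isLocallyClosed,
    dim_preimage_eq (f ≫ q) f g sqX d hd hZ.isLocallyClosed,
    add_add_add_comm _ (d : WithBot ℕ∞), add_add_add_comm _ (d : WithBot ℕ∞), ← Nat.cast_add,
    add_natCast_le_iff]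

end Groth.Agent.WellInter
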