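import Groth.Agent.FlatDim.DimAdd
import Groth.Agent.SubDescent.FlatEmb
import Mathlib
/-!
Well intersecting closed subsets: lower bound for the dimension of the off-diagonal part.
-/
set_option autoImplicit false
set_option linter.style.haveILetI false
set_option backward.isDefEq.respectTransparency false
universe u
open AlgebraicGeometry CategoryTheory CategoryTheory.Limits Groth.Agent.Unibranch

namespace Groth.Agent.WellInter

variable {k : Type u} [Field k]

theorem dim_closed_eq {T : Scheme.{u}} (q : T ⟶ Spec (CommRingCat.of k)) [LocallyOfFiniteType q] {Y : Set T}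
    (hYc : IsClosed Y) (hYi : IsIrreducible Y) :
    topologicalKrullDim Y = (WeilCoh.pdim T hYi.genericPoint : WithBot ℕ∞) := by
  have h := (FlatDim.pdim_spec q hYi.genericPoint).2.2
  rw [IsIrreducible.genericPoint_closure_eq, hYc.closure_eq] at h
  exact h

/-- The dimension of a locally closed subset bounds the dimension of the closure of each of its points. -/
theorem pdim_le_dim {T : Scheme.{u}} (q : T ⟶ Spec (CommRingCat.of k)) [LocallyOfFiniteType q]
    {C : Set T} (hC : IsClosed C) (O : T.Opens) {p : T} (hp : p ∈ C) (hpO : p ∈ O) :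
    (WeilCoh.pdim T p : WithBot ℕ∞) ≤ topologicalKrullDim ↥(C ∩ (O : Set T)) := by
  obtain ⟨W, hW, hpW, hWO⟩ := exists_isAffineOpen_mem_and_subset (X := T) (x := p) (U := O) hpO
  have hT : IsAffineOpen (⊤ : (Spec (CommRingCat.of k)).Opens) := isAffineOpen_top _
  have hch := hasChain_rdimIn (f := q) hT hW le_top hpW
  have hle : WeilCoh.pdim T p ≤ rdimIn q hW (show W ≤ q ⁻¹ᵁ ⊤ from le_top) p hpW :=
    FlatDim.le_of_chainsLE (FlatDim.pdim_spec q p).2.1
      (chainsLE_of_specializes q specializes_rfl hpW (chainsLE_rdimIn hT hW le_top hpW))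
  have hset : (C ∩ (O : Set T)) ∩ q ⁻¹' {q p} = C ∩ (O : Set T) :=
    Set.inter_eq_left.2 fun w _ => Subsingleton.elim (α := PrimeSpectrum k) _ _
  rw [← hset]
  refine le_trans (WithBot.coe_le_coe.2 (Nat.cast_le.2 hle))
    ((natCast_le_topologicalKrullDim_inter_iff q (hC.isLocallyClosed.inter O.isOpen.isLocallyClosed) (q p)).2
      (hch.mono ?_))
  rintro w ⟨hwW, hwc⟩
  exact ⟨closure_minimal (Set.singleton_subset_iff.2 hp) hC hwc, hWO hwW⟩

variable {X S : Scheme.{u}} (q : S ⟶ Spec (CommRingCat.of k)) (f : X ⟶ S)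

/-- The off-diagonal part of `Y ×_S Z`. -/
def offDiag (Y Z : Set X) : Set ↥(pullback f f) :=
  {p | pullback.fst f f p ∈ Y ∧ pullback.snd f f p ∈ Z ∧ p ∉ Set.range (pullback.diagonal f)}

/-- The complement of the diagonal. -/
noncomputable def offOpen [IsSeparated f] : (pullback f f).Opens :=
  ⟨(Set.range (pullback.diagonal f))ᶜ,
    (pullback.diagonal f).isClosedEmbedding.isClosed_range.isOpen_compl⟩

theorem offDiag_eq [IsSeparated f] (Y Z : Set X) :
    offDiag f Y Z = ((pullback.fst f f) ⁻¹' Y ∩ (pullback.snd f f) ⁻¹' Z) ∩ (offOpen f : Set _) := by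
  ext p
  exact ⟨fun h => ⟨⟨h.1, h.2.1⟩, h.2.2⟩, fun h => ⟨h.1.1, h.1.2, h.2⟩⟩

variable [LocallyOfFiniteType q] [LocallyOfFiniteType f] [IsSeparated f]

include q in
theorem pdim_le_dim_offDiag {Y Z : Set X} (hY : IsClosed Y) (hZ : IsClosed Z) {p : ↥(pullback f f)}
    (hp : p ∈ offDiag f Y Z) :
    (WeilCoh.pdim X (pullback.fst f f p) : WithBot ℕ∞) ≤ topologicalKrullDim ↥(offDiag f Y Z) := by
  obtain ⟨δ, -, -, hδ⟩ := FlatDim.exists_pdim_eq (pullback.fst f f) (f ≫ q) p
  rw [offDiag_eq] at hp ⊢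
  refine le_trans ?_ (pdim_le_dim (pullback.fst f f ≫ f ≫ q)
    ((hY.preimage (pullback.fst f f).continuous).inter (hZ.preimage (pullback.snd f f).continuous))
    (offOpen f) hp.1 hp.2)
  exact_mod_cast Nat.le_add_right _ δ |>.trans hδ.ge

variable {q f}

include q in
/-- The key inequality. -/
theorem not_mem_offDiag {Y Z : Set X} (hYc : IsClosed Y) (hYi : IsIrreducible Y) (hZc : IsClosed Z)
    (hZi : IsIrreducible Z)
    (hWI : topologicalKrullDim ↥(offDiag f Y Z) + topologicalKrullDim S ≤ topologicalKrullDim Y + topologicalKrullDim Z)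
    (hZS : topologicalKrullDim Z < topologicalKrullDim S) {p : ↥(pullback f f)}
    (hp : pullback.fst f f p = hYi.genericPoint) : p ∉ offDiag f Y Z := by
  intro hpW
  have h1 := pdim_le_dim_offDiag q f hYc hZc hpW
  rw [hp] at h1
  rw [dim_closed_eq (f ≫ q) hYc hYi, dim_closed_eq (f ≫ q) hZc hZi] at hWI
  rw [dim_closed_eq (f ≫ q) hZc hZi] at hZS
  have h2 := le_trans (add_le_add h1 (le_refl (topologicalKrullDim S))) hWI
  generalize topologicalKrullDim S = s at h2 hZS
  cases s with
  | bot => exact not_lt_bot hZS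
  | coe s =>
    cases s with
    | top =>
      have e : ((WeilCoh.pdim X hYi.genericPoint : ℕ) : WithBot ℕ∞) + ((⊤ : ℕ∞) : WithBot ℕ∞) =
          ((⊤ : ℕ∞) : WithBot ℕ∞) := rfl
      rw [e, ← Nat.cast_add] at h2
      exact absurd (WithBot.coe_le_coe.1 h2) (not_le.2 (ENat.natCast_lt_top _))
    | coe s =>
      norm_cast at h2 hZS
      omega

end Groth.Agent.WellInter
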